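import Groth.Prelude.Def_SGA4hB
import Mathlib.LinearAlgebra.PiTensorProduct.Basis
import Mathlib.LinearAlgebra.Trace
import Mathlib.LinearAlgebra.Matrix.Block
import Mathlib.LinearAlgebra.Eigenspace.Triangularizable
import Mathlib.LinearAlgebra.TensorProduct.Basis
import Mathlib.LinearAlgebra.Charpoly.BaseChange
import Mathlib.RingTheory.PowerSeries.Basic
import Mathlib.RingTheory.PowerSeries.WellKnown
import Mathlib.RingTheory.MvPolynomial
import Mathlib.FieldTheory.IsAlgClosed.AlgebraicClosure
import Mathlib.RingTheory.Localization.FractionRing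
import Mathlib.Data.Finsupp.Multiset
import Mathlib.Data.Sym.Card

/-!
# Traces on symmetric tensors
-/

universe u v w

open Finset PiTensorProduct Polynomial TensorProduct

namespace Groth.Agent.SymTrace

variable {A : Type u} [CommRing A]

section Comb

variable {ι : Type w} {n : ℕ}

/-- The unordered content of a word. -/
def type (f : Fin n → ι) : Sym ι n := Sym.mk (Finset.univ.val.map f) (by simp)

theorem type_comp (f : Fin n → ι) (σ : Equiv.Perm (Fin n)) : type (f ∘ σ) = type f := by
  apply Subtype.ext
  show Finset.univ.val.map (f ∘ σ) = Finset.univ.val.map f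
  rw [← Multiset.map_map]
  congr 1
  simpa using (Finset.univ.map_equiv_eq_univ_val σ)

theorem exists_perm {f g : Fin n → ι} (h : type f = type g) : ∃ σ : Equiv.Perm (Fin n), g ∘ σ = f := by
  classical
  have h' : Finset.univ.val.map f = Finset.univ.val.map g := congrArg Subtype.val h
  have e : ∀ c, {x // f x = c} ≃ {x // g x = c} := fun c => Fintype.equivOfCardEq (by
    have := congrArg (Multiset.count c) h'
    rw [Multiset.count_map, Multiset.count_map] at this
    rw [Fintype.card_subtype, Fintype.card_subtype, Finset.card_def, Finset.card_def, Finset.filter_val,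
      Finset.filter_val]
    simpa [eq_comm] using this)
  exact ⟨Equiv.ofFiberEquiv e, funext fun x => Equiv.ofFiberEquiv_map e x⟩

theorem type_surjective : Function.Surjective (type : (Fin n → ι) → Sym ι n) := by
  intro s
  obtain ⟨l, hl⟩ := Quotient.exists_rep s.1
  have hlen : l.length = n := by
    have := s.2
    rw [← hl] at this
    exact this
  subst hlen
  refine ⟨l.get, Subtype.ext ?_⟩
  show Finset.univ.val.map l.get = _
  rw [← hl, Fin.univ_val_map, List.ofFn_get]
  rfl

/-- A word with given content. -/
noncomputable def rep (s : Sym ι n) : Fin n → ι := (type_surjective s).choose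

theorem type_rep (s : Sym ι n) : type (rep s) = s := (type_surjective s).choose_spec

variable [Fintype ι] [DecidableEq ι]

/-- The candidate trace on symmetric tensors. -/
noncomputable def T (U : Matrix ι ι A) (n : ℕ) : A :=
  ∑ s : Sym ι n, ∑ g : Fin n → ι with type g = s, ∏ k, U (rep s k) (g k)

theorem map_T {B : Type*} [CommRing B] (φ : A →+* B) (U : Matrix ι ι A) (n : ℕ) :
    φ (T U n) = T (U.map φ) n := by
  simp [T, map_sum, map_prod]

end Comb

variable {M : Type v} [AddCommGroup M] [Module A M]

/-- Symmetric tensors. -/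
abbrev Inv (A : Type u) [CommRing A] (M : Type v) [AddCommGroup M] [Module A M] (n : ℕ) :
    Submodule A (⨂[A] _i : Fin n, M) :=
  ⨅ σ : Equiv.Perm (Fin n),
    LinearMap.eqLocus ((PiTensorProduct.reindex A (fun _ : Fin n => M) σ).toLinearMap) LinearMap.id

theorem mem_Inv {n : ℕ} (x : ⨂[A] _i : Fin n, M) :
    x ∈ Inv A M n ↔ ∀ σ : Equiv.Perm (Fin n), PiTensorProduct.reindex A (fun _ : Fin n => M) σ x = x := by
  simp [Inv, Submodule.mem_iInf]

theorem map_reindex {n : ℕ} (u : M →ₗ[A] M) (σ : Equiv.Perm (Fin n)) (x : ⨂[A] _i : Fin n, M) :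
    PiTensorProduct.reindex A (fun _ : Fin n => M) σ (PiTensorProduct.map (fun _ : Fin n => u) x) =
      PiTensorProduct.map (fun _ : Fin n => u) (PiTensorProduct.reindex A (fun _ : Fin n => M) σ x) := by
  induction x using PiTensorProduct.induction_on with
  | smul_tprod r f => simp
  | add a b ha hb => simp [ha, hb]

/-- The action on symmetric tensors. -/
noncomputable def sym (u : M →ₗ[A] M) (n : ℕ) : Inv A M n →ₗ[A] Inv A M n :=
  (PiTensorProduct.map (fun _ : Fin n => u)).restrict (p := Inv A M n) (q := Inv A M n) fun x hx => by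
    rw [mem_Inv] at hx ⊢
    intro σ
    rw [map_reindex, hx σ]

section Basis

variable {ι : Type w} [Fintype ι] [DecidableEq ι] (b : Module.Basis ι A M) {n : ℕ}

/-- Coordinates of tensors. -/
noncomputable def pb (n : ℕ) : Module.Basis (Fin n → ι) A (⨂[A] _i : Fin n, M) :=
  Basis.piTensorProduct fun _ : Fin n => b

theorem repr_tprod (v : Fin n → M) (f : Fin n → ι) :
    (pb b n).repr (tprod A v) f = ∏ k, b.repr (v k) (f k) :=
  Basis.piTensorProduct_repr_tprod_apply _ _ _

omit [DecidableEq ι] in
theorem repr_reindex (σ : Equiv.Perm (Fin n)) (x : ⨂[A] _i : Fin n, M) (f : Fin n → ι) :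
    (pb b n).repr (PiTensorProduct.reindex A (fun _ : Fin n => M) σ x) f = (pb b n).repr x (f ∘ σ) := by
  classical
  induction x using PiTensorProduct.induction_on with
  | smul_tprod r v =>
    rw [map_smul, map_smul, Finsupp.smul_apply, map_smul, Finsupp.smul_apply]
    congr 1
    rw [show PiTensorProduct.reindex A (fun _ : Fin n => M) σ (tprod A v) = tprod A fun i => v (σ.symm i) from
      PiTensorProduct.reindex_tprod _ _, repr_tprod, repr_tprod]
    refine (Fintype.prod_equiv σ _ _ fun k => ?_).symm
    rw [Equiv.symm_apply_apply]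
    rfl
  | add a c ha hc => simp [ha, hc]

theorem mem_Inv_iff (x : ⨂[A] _i : Fin n, M) :
    x ∈ Inv A M n ↔ ∀ f g, type f = type g → (pb b n).repr x f = (pb b n).repr x g := by
  rw [mem_Inv]
  constructor
  · intro h f g hfg
    obtain ⟨σ, rfl⟩ := exists_perm hfg
    conv_rhs => rw [← h σ]
    rw [repr_reindex]
  · intro h σ
    refine (pb b n).ext_elem fun f => ?_
    rw [repr_reindex]
    exact h _ _ (type_comp f σ)

/-- Symmetric tensors are functions on contents. -/
noncomputable def invEquiv (n : ℕ) : Inv A M n ≃ₗ[A] (Sym ι n → A) where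
  toFun x s := (pb b n).repr (x : ⨂[A] _i : Fin n, M) (rep s)
  map_add' x y := by ext s; simp
  map_smul' r x := by ext s; simp
  invFun F := ⟨(pb b n).equivFun.symm fun g => F (type g), (mem_Inv_iff b _).mpr fun f g h => by
    simp only [← Module.Basis.equivFun_apply, LinearEquiv.apply_symm_apply, h]⟩
  left_inv x := by
    apply Subtype.ext
    refine (pb b n).equivFun.injective ?_
    rw [LinearEquiv.apply_symm_apply]
    ext g
    exact (mem_Inv_iff b _).mp x.2 _ _ (type_rep _)
  right_inv F := by
    ext s
    show (pb b n).repr ((pb b n).equivFun.symm fun g => F (type g)) (rep s) = F s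
    rw [← Module.Basis.equivFun_apply, LinearEquiv.apply_symm_apply, type_rep]

theorem trace_sym (u : M →ₗ[A] M) :
    LinearMap.trace A (Inv A M n) (sym u n) = T (LinearMap.toMatrix b b u) n := by
  classical
  rw [LinearMap.trace_eq_matrix_trace A (Module.Basis.ofEquivFun (invEquiv b n)), Matrix.trace]
  refine Finset.sum_congr rfl fun s _ => ?_
  rw [Matrix.diag_apply, LinearMap.toMatrix_apply, Module.Basis.coe_ofEquivFun,
    ← Module.Basis.equivFun_apply, Module.Basis.equivFun_ofEquivFun]
  show (pb b n).repr (PiTensorProduct.map (fun _ : Fin n => u)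
    ((pb b n).equivFun.symm fun g => (Pi.single s (1 : A) : Sym ι n → A) (type g))) (rep s) = _
  rw [Module.Basis.equivFun_symm_apply, map_sum, map_sum, Finsupp.finsetSum_apply, Finset.sum_filter]
  refine Finset.sum_congr rfl fun g _ => ?_
  rw [map_smul, map_smul, Finsupp.smul_apply]
  by_cases h : type g = s
  · rw [h, Pi.single_eq_same, if_pos rfl, one_smul, pb, Basis.piTensorProduct_apply,
      PiTensorProduct.map_tprod]
    refine (Basis.piTensorProduct_repr_tprod_apply _ _ _).trans (Finset.prod_congr rfl fun k _ => ?_)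
    rw [LinearMap.toMatrix_apply]
  · rw [Pi.single_eq_of_ne h, zero_smul, if_neg h]

theorem detOneSub_eq {M : Type u} [AddCommGroup M] [Module A M] (b : Module.Basis ι A M) (u : M →ₗ[A] M) :
    SGA4h.detOneSub (ModuleCat.of A M) (ModuleCat.ofHom u) =
      Matrix.det (1 - (X : A[X]) • (LinearMap.toMatrix b b u).map C) := by
  show LinearMap.det (LinearMap.id - (X : A[X]) • u.baseChange A[X]) = _
  rw [← LinearMap.det_toMatrix (Algebra.TensorProduct.basis A[X] b)]
  congr 1
  ext i j : 1
  rw [LinearMap.toMatrix_apply, LinearMap.sub_apply, map_sub, Finsupp.sub_apply]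
  simp [LinearMap.toMatrix_apply, LinearMap.baseChange_tmul, Matrix.one_apply, Finsupp.single_apply, eq_comm]

end Basis

/-- Triangularisation. -/
theorem exists_triangular_basis {K : Type*} [Field K] [IsAlgClosed K] :
    ∀ (r : ℕ) {V : Type v} [AddCommGroup V] [Module K V] [FiniteDimensional K V],
      Module.finrank K V = r → ∀ f : V →ₗ[K] V,
      ∃ b : Module.Basis (Fin r) K V, ∀ i j, j < i → b.repr (f (b j)) i = 0 := by
  intro r
  induction r with
  | zero =>
    intro V _ _ _ h f
    exact ⟨Module.finBasisOfFinrankEq K V h, fun i => i.elim0⟩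
  | succ r ih =>
    intro V _ _ _ h f
    haveI : Nontrivial V := Module.nontrivial_of_finrank_eq_succ h
    obtain ⟨μ, hμ⟩ := Module.End.exists_eigenvalue f
    obtain ⟨v, hv⟩ := hμ.exists_hasEigenvector
    let L := Submodule.span K {v}
    have hfv : f v = μ • v := hv.apply_eq_smul
    have hL : L ≤ L.comap f := by
      rw [Submodule.span_le, Set.singleton_subset_iff]
      show f v ∈ L
      rw [hfv]
      exact Submodule.smul_mem _ _ (Submodule.mem_span_singleton_self v)
    have hq : Module.finrank K (V ⧸ L) = r := by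
      have := L.finrank_quotient_add_finrank
      rw [finrank_span_singleton hv.2, h] at this
      omega
    obtain ⟨c, hc⟩ := ih hq (L.mapQ L f hL)
    choose w hw using fun i => Submodule.Quotient.mk_surjective L (c i)
    have hrepr : ∀ (g : Fin (r + 1) → K), Submodule.Quotient.mk (p := L) (∑ i, g i • (Fin.cons v w : Fin (r + 1) → V) i) =
        ∑ i : Fin r, g i.succ • c i := by
      intro g
      rw [Fin.sum_univ_succ, ← Submodule.mkQ_apply, map_add, map_smul, map_sum, Fin.cons_zero]
      simp only [Fin.cons_succ, map_smul, Submodule.mkQ_apply, hw]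
      rw [(Submodule.Quotient.mk_eq_zero L).mpr (Submodule.mem_span_singleton_self v), smul_zero, zero_add]
    have hli : LinearIndependent K (Fin.cons v w : Fin (r + 1) → V) := by
      rw [Fintype.linearIndependent_iff]
      intro g hg
      have h1 := hrepr g
      rw [hg, Submodule.Quotient.mk_zero, eq_comm] at h1
      have h2 : ∀ i : Fin r, g i.succ = 0 := Fintype.linearIndependent_iff.mp c.linearIndependent _ h1
      have h3 : g 0 = 0 := by
        rw [Fin.sum_univ_succ, Fin.cons_zero] at hg
        simp only [h2, zero_smul, Finset.sum_const_zero, add_zero] at hg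
        exact (smul_eq_zero.mp hg).resolve_right hv.2
      exact Fin.cases h3 h2
    let b := basisOfLinearIndependentOfCardEqFinrank hli (by rw [Fintype.card_fin, h])
    have hb : ⇑b = Fin.cons v w := coe_basisOfLinearIndependentOfCardEqFinrank _ _
    refine ⟨b, fun i j hij => ?_⟩
    rcases Fin.eq_zero_or_eq_succ j with rfl | ⟨j, rfl⟩
    · rw [hb, Fin.cons_zero, hfv, map_smul, show v = b 0 by rw [hb, Fin.cons_zero], Module.Basis.repr_self,
        Finsupp.smul_apply, Finsupp.single_eq_of_ne hij.ne', smul_zero]
    · rcases Fin.eq_zero_or_eq_succ i with rfl | ⟨i, rfl⟩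
      · exact absurd hij (by simp)
      have h1 := hrepr (fun k => b.repr (f (b j.succ)) k)
      rw [← hb, b.sum_repr] at h1
      have h2 : Submodule.Quotient.mk (p := L) (f (b j.succ)) = L.mapQ L f hL (c j) := by
        rw [hb, Fin.cons_succ, ← hw j, Submodule.mapQ_apply]
      have h3 := congrArg (fun x => c.repr x i) (h2.symm.trans h1)
      simp only [map_sum, map_smul, Module.Basis.repr_self, Finsupp.finsetSum_apply, Finsupp.smul_apply,
        Finsupp.single_apply, smul_eq_mul, mul_ite, mul_one, mul_zero] at h3
      rw [Finset.sum_ite_eq' Finset.univ i, if_pos (Finset.mem_univ _)] at h3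
      rw [← h3]
      exact hc i j (by simpa using hij)

theorem T_triangular {r : ℕ} (U : Matrix (Fin r) (Fin r) A) (h : ∀ i j, j < i → U i j = 0) (n : ℕ) :
    T U n = ∑ s : Sym (Fin r) n, ((s : Multiset (Fin r)).map fun i => U i i).prod := by
  refine Finset.sum_congr rfl fun s _ => ?_
  rw [Finset.sum_eq_single (rep s)]
  · conv_rhs => rw [← type_rep s]
    show _ = ((Finset.univ.val.map (rep s)).map fun i => U i i).prod
    rw [Multiset.map_map]
    rfl
  · intro g hg hne
    rw [Finset.mem_filter] at hg
    by_contra hprod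
    have hle : ∀ k, rep s k ≤ g k := fun k => not_lt.mp fun hlt =>
      hprod (Finset.prod_eq_zero (Finset.mem_univ k) (h _ _ hlt))
    have hsum : ∑ k : Fin n, Fin.val (rep s k) = ∑ k : Fin n, Fin.val (g k) := by
      have := congrArg (fun t : Sym (Fin r) n => ((t : Multiset (Fin r)).map (Fin.val : Fin r → ℕ)).sum)
        ((type_rep s).trans hg.2.symm)
      simp only [type, Sym.coe_mk, Multiset.map_map] at this
      exact this
    refine hne (funext fun k => Fin.ext ?_)
    exact (((Finset.sum_eq_sum_iff_of_le (s := Finset.univ) (f := fun k => Fin.val (rep s k))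
      (g := fun k => Fin.val (g k)) fun i _ => (hle i : Fin.val (rep s i) ≤ Fin.val (g i))).mp hsum) k
      (Finset.mem_univ k)).symm
  · intro hs
    exact absurd ((Finset.mem_filter (p := fun g : Fin n → Fin r => type g = s)).mpr ⟨Finset.mem_univ (rep s), type_rep s⟩) hs

theorem prod_series {r : ℕ} (lam : Fin r → A) :
    (PowerSeries.mk fun n => ∑ s : Sym (Fin r) n, ((s : Multiset (Fin r)).map lam).prod) =
      ∏ i : Fin r, PowerSeries.mk fun n => lam i ^ n := by
  ext n
  rw [PowerSeries.coeff_mk, PowerSeries.coeff_prod]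
  simp only [PowerSeries.coeff_mk]
  refine Finset.sum_bij (fun s _ => Multiset.toFinsupp (s : Multiset (Fin r))) ?_ ?_ ?_ ?_
  · intro s _
    rw [Finset.mem_finsuppAntidiag]
    refine ⟨?_, Finset.subset_univ _⟩
    show ∑ i, Multiset.toFinsupp (s : Multiset (Fin r)) i = n
    simp only [Multiset.toFinsupp_apply]
    rw [Multiset.sum_count_eq_card (fun a _ => Finset.mem_univ a)]
    exact s.2
  · intro s _ t _ hst
    exact Subtype.ext (Multiset.toFinsupp.injective hst)
  · intro l hl
    rw [Finset.mem_finsuppAntidiag] at hl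
    refine ⟨Sym.mk (Finsupp.toMultiset l) ?_, Finset.mem_univ _, Finsupp.toMultiset_toFinsupp l⟩
    rw [Finsupp.card_toMultiset, ← hl.1, Finsupp.sum_fintype _ _ (by simp)]
    rfl
  · intro s _
    simp only [Multiset.toFinsupp_apply]
    rw [Finset.prod_multiset_map_count]
    refine Finset.prod_subset (Finset.subset_univ _) fun i _ hi => ?_
    rw [Multiset.count_eq_zero.mpr (by simpa using hi), pow_zero]

theorem one_sub_mul_geom (a : A) :
    ((1 - Polynomial.X * Polynomial.C a : A[X]) : PowerSeries A) * PowerSeries.mk (fun n => a ^ n) = 1 := by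
  have h := congrArg (PowerSeries.rescale a) (PowerSeries.mk_one_mul_one_sub_eq_one A)
  rw [map_mul, map_one, map_sub, map_one, PowerSeries.rescale_mk, PowerSeries.rescale_X] at h
  simp only [Pi.one_apply, mul_one] at h
  rw [Polynomial.coe_sub, Polynomial.coe_one, Polynomial.coe_mul, Polynomial.coe_X, Polynomial.coe_C,
    mul_comm PowerSeries.X, mul_comm]
  exact h

theorem identity_of_field {K : Type u} [Field K] [IsAlgClosed K] {ι : Type u} [Fintype ι] [DecidableEq ι]
    (U : Matrix ι ι K) :
    ((Matrix.det (1 - (X : K[X]) • U.map C) : K[X]) : PowerSeries K) * PowerSeries.mk (T U) = 1 := by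
  let b₀ := Pi.basisFun K ι
  let u := Matrix.toLin b₀ b₀ U
  obtain ⟨b, hb⟩ := exists_triangular_basis (Module.finrank K (ι → K)) rfl u
  have hU : LinearMap.toMatrix b₀ b₀ u = U := LinearMap.toMatrix_toLin _ _ _
  have hdet : Matrix.det (1 - (X : K[X]) • U.map C) =
      Matrix.det (1 - (X : K[X]) • (LinearMap.toMatrix b b u).map C) := by
    rw [← hU, ← detOneSub_eq b₀ u, detOneSub_eq b u]
  have hT : T U = T (LinearMap.toMatrix b b u) := funext fun n => by
    rw [← hU, ← trace_sym b₀ u, trace_sym b u]
  rw [hdet, hT]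
  set V := LinearMap.toMatrix b b u
  have hV : ∀ i j, j < i → V i j = 0 := fun i j h => (LinearMap.toMatrix_apply b b u i j).trans (hb i j h)
  have h1 : PowerSeries.mk (T V) = PowerSeries.mk fun n =>
      ∑ s : Sym (Fin (Module.finrank K (ι → K))) n,
        ((s : Multiset (Fin (Module.finrank K (ι → K)))).map fun i => V i i).prod :=
    congrArg PowerSeries.mk (funext fun n => T_triangular V hV n)
  rw [h1, prod_series, Matrix.det_of_upperTriangular]
  swap
  · intro i j (hij : j < i)
    simp [Matrix.one_apply_ne hij.ne', hV i j hij]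
  rw [show ((∏ i, (1 - (X : K[X]) • V.map C) i i : K[X]) : PowerSeries K) =
      ∏ i, ((1 - Polynomial.X * Polynomial.C (V i i) : K[X]) : PowerSeries K) by
    rw [← Polynomial.coeToPowerSeries.ringHom_apply, map_prod]
    simp [Polynomial.coeToPowerSeries.ringHom_apply]]
  rw [← Finset.prod_mul_distrib]
  exact Finset.prod_eq_one fun i _ => one_sub_mul_geom _

theorem identity {ι : Type u} [Fintype ι] [DecidableEq ι] (U : Matrix ι ι A) :
    ((Matrix.det (1 - (X : A[X]) • U.map C) : A[X]) : PowerSeries A) * PowerSeries.mk (T U) = 1 := by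
  let P := MvPolynomial (ι × ι) ℤ
  let G : Matrix ι ι P := fun i j => MvPolynomial.X (i, j)
  let K := AlgebraicClosure (FractionRing P)
  let φ : P →+* K := (algebraMap (FractionRing P) K).comp (algebraMap P (FractionRing P))
  have hφ : Function.Injective φ :=
    (algebraMap (FractionRing P) K).injective.comp (IsFractionRing.injective P (FractionRing P))
  have nat : ∀ {B C' : Type u} [CommRing B] [CommRing C'] (ψ : B →+* C') (W : Matrix ι ι B),
      PowerSeries.map ψ (((Matrix.det (1 - (X : B[X]) • W.map C) : B[X]) : PowerSeries B) * PowerSeries.mk (T W)) =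
        ((Matrix.det (1 - (X : C'[X]) • (W.map ψ).map C) : C'[X]) : PowerSeries C') * PowerSeries.mk (T (W.map ψ)) := by
    intro B C' _ _ ψ W
    rw [map_mul]
    congr 1
    · rw [← Polynomial.polynomial_map_coe]
      congr 1
      rw [← Polynomial.coe_mapRingHom, RingHom.map_det, RingHom.mapMatrix_apply]
      congr 1
      ext i j : 1
      simp [Matrix.one_apply, apply_ite (Polynomial.map ψ)]
    · ext n
      simp [map_T]
  have hG : ((Matrix.det (1 - (X : P[X]) • G.map C) : P[X]) : PowerSeries P) * PowerSeries.mk (T G) = 1 := by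
    refine PowerSeries.map_injective φ hφ ?_
    rw [map_one, nat φ G, identity_of_field]
  let ψ : P →+* A := (MvPolynomial.aeval fun p : ι × ι => U p.1 p.2).toRingHom
  have hU : G.map ψ = U := by ext i j; simp [G, ψ, P]
  have := congrArg (PowerSeries.map ψ) hG
  rwa [nat ψ G, map_one, hU] at this

end Groth.Agent.SymTrace
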